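import Groth.Agent.EtDeg8.Clopen
import Groth.Agent.Et18.FiniteEtaleCard
import Groth.Agent.FEtSect.Basic

/-!
# Euler characteristics multiply along finite étale covers
-/

set_option autoImplicit false
set_option linter.style.haveILetI false
set_option backward.isDefEq.respectTransparency false

universe u

open CategoryTheory CategoryTheory.Limits AlgebraicGeometry Opposite TopologicalSpace
open Groth.Agent.Coherent Groth.Agent.EulerLib Groth.Agent.AssSch12 Groth.Agent.AbCubeLib

namespace Groth.Agent.EtDeg8

/-- On an empty scheme every module is zero. -/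
theorem isZero_of_isEmpty {X : Scheme.{u}} [IsEmpty X] (M : X.Modules) : IsZero M := by
  rw [IsZero.iff_id_eq_zero]
  refine Scheme.Modules.hom_ext _ _ fun W => ConcreteCategory.hom_ext _ _ fun x => ?_
  let F : TopCat.Sheaf AddCommGrpCat.{u} X := ⟨M.presheaf, M.isSheaf⟩
  exact TopCat.Sheaf.eq_of_locally_eq' F (fun i : PEmpty.{u + 1} => i.elim) W (fun i => i.elim)
    (fun z _ => isEmptyElim z) _ _ fun i => i.elim

theorem euler_pullback_of_isIso (k : Type u) [Field k] {U X : Scheme.{u}} [U.Over (Spec (CommRingCat.of k))]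
    [X.Over (Spec (CommRingCat.of k))] [IsProper (U ↘ Spec (CommRingCat.of k))]
    [IsProper (X ↘ Spec (CommRingCat.of k))] (a : U ⟶ X) [IsIso a]
    (ha : a ≫ (X ↘ Spec (CommRingCat.of k)) = U ↘ Spec (CommRingCat.of k)) {G : X.Modules} (hG : Coh.IsCoh G) :
    Curv2.euler k U ((Scheme.Modules.pullback a).obj G) = Curv2.euler k X G := by
  haveI := isNoetherian_of_proper (X := X) k
  have h := euler_pullback_eq_mul a k ha 1 (fun M _ => ?_) hG
  · rwa [one_mul] at h
  · rw [one_mul]
    exact euler_congr k U ((Scheme.Modules.restrictFunctorIsoPullback a).symm.app _ ≪≫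
      (asIso (Scheme.Modules.restrictAdjunction a).counit).app M)

theorem isClosedImmersion_ι {Z : Scheme.{u}} (U : Z.Opens) (h : IsClosed (U : Set Z)) :
    IsClosedImmersion U.ι :=
  IsClosedImmersion.of_isPreimmersion U.ι (by rw [Scheme.Opens.range_ι]; exact h)

/-- The Euler characteristic of a clopen piece. -/
theorem euler_piece (k : Type u) [Field k] {Z : Scheme.{u}} [Z.Over (Spec (CommRingCat.of k))]
    [IsProper (Z ↘ Spec (CommRingCat.of k))] (U : Z.Opens) [U.toScheme.Over (Spec (CommRingCat.of k))]
    (hU : U.ι ≫ (Z ↘ Spec (CommRingCat.of k)) = U.toScheme ↘ Spec (CommRingCat.of k)) [IsClosedImmersion U.ι]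
    {M : Z.Modules} (hM : Coh.IsCoh M) :
    Coh.IsCoh ((Coh.push U.ι).obj (M.restrict U.ι)) ∧
      Curv2.euler k Z ((Coh.push U.ι).obj (M.restrict U.ι)) =
        Curv2.euler k U.toScheme ((Scheme.Modules.pullback U.ι).obj M) := by
  haveI := isNoetherian_of_proper (X := Z) k
  haveI := isSeparated_of_proper (X := Z) k
  haveI : IsLocallyNoetherian U.toScheme := LocallyOfFiniteType.isLocallyNoetherian U.ι
  let e := (Scheme.Modules.restrictFunctorIsoPullback U.ι).app M
  have hr : Coh.IsCoh (M.restrict U.ι) := isCoh_iso e.symm (ZClosLib.isCoh_pullback U.ι M hM)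
  haveI := hr.1
  refine ⟨isCoh_push_finite U.ι hr, ?_⟩
  rw [← euler_push k U.ι hU (M.restrict U.ι)]
  exact euler_congr k U.toScheme e

/-- The statement proved by induction on the degree. -/
theorem euler_pullback_finite_etale (k : Type u) [Field k] : ∀ (d : ℕ) (X X' : Scheme.{u})
    [X.Over (Spec (CommRingCat.of k))] [X'.Over (Spec (CommRingCat.of k))]
    [IsProper (X ↘ Spec (CommRingCat.of k))] [IsProper (X' ↘ Spec (CommRingCat.of k))]
    (φ : X' ⟶ X) [IsFinite φ] [Etale φ],
    φ ≫ (X ↘ Spec (CommRingCat.of k)) = X' ↘ Spec (CommRingCat.of k) → (∀ y, φ.finrank y = d) →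
    ∀ F : X.Modules, Coh.IsCoh F →
      Curv2.euler k X' ((Scheme.Modules.pullback φ).obj F) = (d : ℤ) * Curv2.euler k X F := by
  intro d
  induction d with
  | zero =>
    intro X X' _ _ _ _ φ _ _ hφ hd F hF
    haveI := isNoetherian_of_proper (X := X') k
    haveI : IsEmpty X' := ⟨fun x => by
      have := φ.one_le_finrank_map x
      rw [hd] at this
      omega⟩
    rw [Nat.cast_zero, zero_mul]
    exact IsAdditive.apply_isZero (fun S hS c₁ c₂ c₃ => euler_additive k X' S hS c₁ c₂ c₃)
      (fun M N ⟨e⟩ => euler_congr k X' e) (isZero_of_isEmpty _)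
  | succ d ih =>
    intro X X' _ _ _ _ φ _ _ hφ hd F hF
    haveI := isNoetherian_of_proper (X := X) k
    haveI := isSeparated_of_proper (X := X') k
    haveI : Surjective φ := φ.one_le_finrank_iff_surjective.1 fun y => by
      show 1 ≤ φ.finrank y
      rw [hd]
      omega
    refine euler_pullback_eq_mul φ k hφ _ (fun G hG => ?_) hF
    haveI := hG.1
    let Z := pullback φ φ
    let p : Z ⟶ X' := pullback.fst φ φ
    let s : Z ⟶ X' := pullback.snd φ φ
    haveI : IsFinite p := MorphismProperty.pullback_fst _ _ inferInstance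
    haveI : IsFinite s := MorphismProperty.pullback_snd _ _ inferInstance
    haveI : Etale p := MorphismProperty.pullback_fst _ _ inferInstance
    letI : Z.Over (Spec (CommRingCat.of k)) := ⟨s ≫ (X' ↘ Spec (CommRingCat.of k))⟩
    haveI : IsProper (Z ↘ Spec (CommRingCat.of k)) :=
      inferInstanceAs (IsProper (s ≫ (X' ↘ Spec (CommRingCat.of k))))
    have hps : p ≫ (X' ↘ Spec (CommRingCat.of k)) = Z ↘ Spec (CommRingCat.of k) := by
      show _ = s ≫ (X' ↘ Spec (CommRingCat.of k))
      rw [← hφ, ← Category.assoc, pullback.condition, Category.assoc]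
    haveI : Coh.IsQCoh ((Scheme.Modules.pullback p).obj G) := EGA43.InjFibre.isQCoh_pullback p G
    have hsq : IsPullback p s φ φ := IsPullback.of_hasPullback φ φ
    haveI := RelVALib.isIso_bcHom hsq G
    rw [show Curv2.euler k X' ((Scheme.Modules.pullback φ).obj ((Coh.push φ).obj G)) =
        Curv2.euler k X' ((Coh.push s).obj ((Scheme.Modules.pullback p).obj G)) from
      euler_congr k X' (asIso (RelVALib.bcHom hsq G)),
      ← euler_push k s rfl ((Scheme.Modules.pullback p).obj G)]
    -- the diagonal is a clopen piece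
    let Δ : X' ⟶ Z := pullback.diagonal φ
    have hΔp : Δ ≫ p = 𝟙 _ := pullback.diagonal_fst φ
    let U : Z.Opens := Δ.opensRange
    have hUc : IsClosed (U : Set Z) := Δ.isClosedEmbedding.isClosed_range
    let V : Z.Opens := ⟨(U : Set Z)ᶜ, hUc.isOpen_compl⟩
    have hVc : IsClosed (V : Set Z) := U.isOpen.isClosed_compl
    have hUV : U ⊓ V = ⊥ := Opens.ext (Set.inter_compl_self _)
    have hcov : U ⊔ V = ⊤ := Opens.ext (Set.union_compl_self _)
    haveI := isClosedImmersion_ι U hUc
    haveI := isClosedImmersion_ι V hVc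
    letI : U.toScheme.Over (Spec (CommRingCat.of k)) := ⟨U.ι ≫ (Z ↘ Spec (CommRingCat.of k))⟩
    letI : V.toScheme.Over (Spec (CommRingCat.of k)) := ⟨V.ι ≫ (Z ↘ Spec (CommRingCat.of k))⟩
    haveI : IsProper (U.toScheme ↘ Spec (CommRingCat.of k)) :=
      inferInstanceAs (IsProper (U.ι ≫ (Z ↘ Spec (CommRingCat.of k))))
    haveI : IsProper (V.toScheme ↘ Spec (CommRingCat.of k)) :=
      inferInstanceAs (IsProper (V.ι ≫ (Z ↘ Spec (CommRingCat.of k))))
    have hM : Coh.IsCoh ((Scheme.Modules.pullback p).obj G) := ZClosLib.isCoh_pullback p G hG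
    obtain ⟨hA, eA⟩ := euler_piece k U rfl hM
    obtain ⟨hB, eB⟩ := euler_piece k V rfl hM
    rw [euler_clopen k U V hUV hcov hM hA hB, eA, eB,
      show Curv2.euler k U.toScheme ((Scheme.Modules.pullback U.ι).obj ((Scheme.Modules.pullback p).obj G)) =
          Curv2.euler k U.toScheme ((Scheme.Modules.pullback (U.ι ≫ p)).obj G) from
        euler_congr k U.toScheme ((Scheme.Modules.pullbackComp U.ι p).app G),
      show Curv2.euler k V.toScheme ((Scheme.Modules.pullback V.ι).obj ((Scheme.Modules.pullback p).obj G)) =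
          Curv2.euler k V.toScheme ((Scheme.Modules.pullback (V.ι ≫ p)).obj G) from
        euler_congr k V.toScheme ((Scheme.Modules.pullbackComp V.ι p).app G)]
    -- the diagonal piece is isomorphic to `X'`
    haveI : IsIso (U.ι ≫ p) := by
      have : U.ι ≫ p = Δ.isoOpensRange.inv := by
        rw [← Scheme.Hom.isoOpensRange_inv_comp Δ, Category.assoc, hΔp, Category.comp_id]
      rw [this]
      infer_instance
    rw [euler_pullback_of_isIso k (U.ι ≫ p) (by rw [Category.assoc, hps]; rfl) hG]
    -- the complement has degree `d` over `X'`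
    have hdV : ∀ y, (V.ι ≫ p).finrank y = d := by
      intro y
      obtain ⟨Ω, _, _, η, hη⟩ := FEtSect.exists_geomPoint y
      obtain ⟨hfp, hcp, -⟩ := Et18.card_pointLift p η
      obtain ⟨hfg, hcg, -⟩ := Et18.card_pointLift (V.ι ≫ p) η
      rw [hη] at hcp hcg
      rw [Scheme.Hom.finrank_pullback_fst, hd] at hcp
      rw [← hcg]
      let f : Option (Et18.PointLift (V.ι ≫ p) η) → Et18.PointLift p η := fun o =>
        o.elim ⟨η ≫ Δ, by rw [Category.assoc, hΔp, Category.comp_id]⟩
          fun v => ⟨v.1 ≫ V.ι, by rw [Category.assoc]; exact v.2⟩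
      have hne : ∀ v : Et18.PointLift (V.ι ≫ p) η, η ≫ Δ ≠ v.1 ≫ V.ι := fun v h => by
        have h1 : Δ (η (IsLocalRing.closedPoint Ω)) = V.ι (v.1 (IsLocalRing.closedPoint Ω)) := by
          rw [← Scheme.Hom.comp_apply, ← Scheme.Hom.comp_apply, h]
        have h2 : V.ι (v.1 (IsLocalRing.closedPoint Ω)) ∈ V := (v.1 (IsLocalRing.closedPoint Ω)).2
        exact h2 (h1 ▸ ⟨_, rfl⟩)
      have hf : Function.Bijective f := by
        constructor
        · rintro (_ | v) (_ | w) h
          · rfl
          · exact absurd (congrArg Subtype.val h) (hne w)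
          · exact absurd (congrArg Subtype.val h).symm (hne v)
          · exact congrArg some (Subtype.ext ((cancel_mono V.ι).1 (congrArg Subtype.val h)))
        · intro w
          by_cases hw : w.1 (IsLocalRing.closedPoint Ω) ∈ U
          · refine ⟨none, Subtype.ext ?_⟩
            have hr : Set.range w.1 ⊆ Set.range Δ := by
              rintro _ ⟨x, rfl⟩
              rw [Subsingleton.elim x (IsLocalRing.closedPoint Ω)]
              exact hw
            have h1 := IsOpenImmersion.lift_fac Δ w.1 hr
            have h2 := congrArg (· ≫ p) h1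
            simp only [Category.assoc, hΔp, Category.comp_id, w.2] at h2
            show η ≫ Δ = w.1
            exact (congrArg (· ≫ Δ) h2.symm).trans h1
          · have hr : Set.range w.1 ⊆ Set.range V.ι := by
              rintro _ ⟨x, rfl⟩
              rw [Subsingleton.elim x (IsLocalRing.closedPoint Ω), Scheme.Opens.range_ι]
              exact hw
            exact ⟨some ⟨IsOpenImmersion.lift V.ι w.1 hr, by
              rw [← Category.assoc, IsOpenImmersion.lift_fac, w.2]⟩, Subtype.ext (IsOpenImmersion.lift_fac _ _ _)⟩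
      haveI := hfg
      have h3 := Nat.card_eq_of_bijective f hf
      rw [Finite.card_option, hcp] at h3
      omega
    rw [ih X' V.toScheme (V.ι ≫ p) (by rw [Category.assoc, hps]; rfl) hdV G hG]
    push_cast
    ring

end Groth.Agent.EtDeg8
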