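import Groth.Agent.AbCubeLib.EulerPullback

/-!
# Euler characteristic along a clopen decomposition
-/

set_option autoImplicit false
set_option linter.style.haveILetI false
set_option backward.isDefEq.respectTransparency false

universe u

open CategoryTheory CategoryTheory.Limits AlgebraicGeometry Opposite TopologicalSpace
open Groth.Agent.Coherent Groth.Agent.EulerLib Groth.Agent.AssSch12

namespace Groth.Agent.EtDeg8

variable {X : Scheme.{u}}

/-- `M ⟶ j_* j^* M`. -/
noncomputable abbrev resUnit (U : X.Opens) (M : X.Modules) : M ⟶ (Coh.push U.ι).obj (M.restrict U.ι) :=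
  (Scheme.Modules.restrictAdjunction U.ι).unit.app M

theorem add_app_apply {M N : X.Modules} (f g : M ⟶ N) (W : X.Opens) (z : Γ(M, W)) :
    (f + g).app W z = f.app W z + g.app W z := rfl

theorem comp_app_apply {M N P : X.Modules} (f : M ⟶ N) (g : N ⟶ P) (W : X.Opens) (z : Γ(M, W)) :
    (f ≫ g).app W z = g.app W (f.app W z) := rfl

theorem sections_total (A B : X.Modules) (W : X.Opens) (z : Γ(A ⊞ B, W)) :
    z = (biprod.inl : A ⟶ A ⊞ B).app W ((biprod.fst : A ⊞ B ⟶ A).app W z) +
      (biprod.inr : B ⟶ A ⊞ B).app W ((biprod.snd : A ⊞ B ⟶ B).app W z) := by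
  have h := congrArg (fun f : A ⊞ B ⟶ A ⊞ B => f.app W z) (biprod.total (X := A) (Y := B))
  dsimp only at h
  rw [add_app_apply, comp_app_apply, comp_app_apply] at h
  exact h.symm

theorem sections_biprod_ext (A B : X.Modules) (W : X.Opens) (z z' : Γ(A ⊞ B, W))
    (h1 : (biprod.fst : A ⊞ B ⟶ A).app W z = (biprod.fst : A ⊞ B ⟶ A).app W z')
    (h2 : (biprod.snd : A ⊞ B ⟶ B).app W z = (biprod.snd : A ⊞ B ⟶ B).app W z') : z = z' := by
  rw [sections_total A B W z, sections_total A B W z', h1, h2]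

theorem isIso_lift_resUnit (U V : X.Opens) (hUV : U ⊓ V = ⊥) (hcov : U ⊔ V = ⊤) (M : X.Modules) :
    IsIso (biprod.lift (resUnit U M) (resUnit V M)) := by
  refine Scheme.Modules.Hom.isIso_iff_isIso_app.2 fun W => (ConcreteCategory.isIso_iff_bijective _).2 ?_
  let A := (Coh.push U.ι).obj (M.restrict U.ι)
  let B := (Coh.push V.ι).obj (M.restrict V.ι)
  let l := biprod.lift (resUnit U M) (resUnit V M)
  let u' : X.Opens := U.ι ''ᵁ (U.ι ⁻¹ᵁ W)
  let v' : X.Opens := V.ι ''ᵁ (V.ι ⁻¹ᵁ W)
  have hu' : u' = U ⊓ W := by rw [show u' = U.ι ''ᵁ (U.ι ⁻¹ᵁ W) from rfl, Scheme.Hom.image_preimage_eq_opensRange_inf, Scheme.Opens.opensRange_ι]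
  have hv' : v' = V ⊓ W := by rw [show v' = V.ι ''ᵁ (V.ι ⁻¹ᵁ W) from rfl, Scheme.Hom.image_preimage_eq_opensRange_inf, Scheme.Opens.opensRange_ι]
  let O : Bool → X.Opens := fun b => cond b u' v'
  have hO : ∀ b, O b ≤ W := fun b => by
    cases b
    · exact (hv'.le).trans inf_le_right
    · exact (hu'.le).trans inf_le_right
  have hcovW : W ≤ iSup O := fun z hz => by
    have : z ∈ U ⊔ V := by rw [hcov]; trivial
    rcases this with h | h
    · exact Opens.mem_iSup.2 ⟨true, hu'.ge ⟨h, hz⟩⟩
    · exact Opens.mem_iSup.2 ⟨false, hv'.ge ⟨h, hz⟩⟩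
  let F : TopCat.Sheaf AddCommGrpCat.{u} X := ⟨M.presheaf, M.isSheaf⟩
  have hfst : ∀ a : Γ(M, W), (biprod.fst : A ⊞ B ⟶ A).app W (l.app W a) = M.presheaf.map (homOfLE (hO true)).op a :=
    fun a => (congr($(biprod.lift_fst (resUnit U M) (resUnit V M)).app W a)).trans rfl
  have hsnd : ∀ a : Γ(M, W), (biprod.snd : A ⊞ B ⟶ B).app W (l.app W a) = M.presheaf.map (homOfLE (hO false)).op a :=
    fun a => (congr($(biprod.lift_snd (resUnit U M) (resUnit V M)).app W a)).trans rfl
  constructor
  · intro a a' h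
    refine TopCat.Sheaf.eq_of_locally_eq' F O W (fun b => homOfLE (hO b)) hcovW a a' fun b => ?_
    cases b
    · refine ((hsnd a).symm.trans ?_).trans (hsnd a')
      exact congrArg _ h
    · refine ((hfst a).symm.trans ?_).trans (hfst a')
      exact congrArg _ h
  · intro c
    let sf : ∀ b, Γ(M, O b) := fun b => Bool.rec
      (motive := fun b => Γ(M, O b)) ((biprod.snd : A ⊞ B ⟶ B).app W c) ((biprod.fst : A ⊞ B ⟶ A).app W c) b
    have hcompat : TopCat.Presheaf.IsCompatible M.presheaf O sf := by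
      intro b b'
      rcases eq_or_ne b b' with rfl | hne
      · rfl
      · have hbot : O b ⊓ O b' = ⊥ := by
          rw [eq_bot_iff]
          cases b <;> cases b' <;> try exact absurd rfl hne
          · exact le_trans (le_inf (le_trans inf_le_right (hu'.le.trans inf_le_left))
              (le_trans inf_le_left (hv'.le.trans inf_le_left))) hUV.le
          · exact le_trans (le_inf (le_trans inf_le_left (hu'.le.trans inf_le_left))
              (le_trans inf_le_right (hv'.le.trans inf_le_left))) hUV.le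
        haveI : Subsingleton Γ(M, O b ⊓ O b') := by
          refine subsingleton_of_forall_eq 0 fun x => ?_
          exact TopCat.Sheaf.eq_of_locally_eq' F (fun i : PEmpty.{u + 1} => i.elim) (O b ⊓ O b')
            (fun i => i.elim) (by rw [hbot]; exact bot_le) x 0 fun i => i.elim
        exact Subsingleton.elim _ _
    obtain ⟨a, ha, -⟩ := TopCat.Sheaf.existsUnique_gluing' F O W (fun b => homOfLE (hO b)) hcovW sf hcompat
    refine ⟨a, ?_⟩
    exact sections_biprod_ext A B W _ c ((hfst a).trans (ha true)) ((hsnd a).trans (ha false))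

theorem euler_clopen (k : Type u) [Field k] [X.Over (Spec (CommRingCat.of k))]
    [IsProper (X ↘ Spec (CommRingCat.of k))] (U V : X.Opens) (hUV : U ⊓ V = ⊥) (hcov : U ⊔ V = ⊤)
    [IsAffineHom U.ι] [IsAffineHom V.ι] [QuasiCompact U.ι] [QuasiCompact V.ι]
    {M : X.Modules} (hM : Coh.IsCoh M)
    (hA : Coh.IsCoh ((Coh.push U.ι).obj (M.restrict U.ι))) (hB : Coh.IsCoh ((Coh.push V.ι).obj (M.restrict V.ι))) :
    Curv2.euler k X M = Curv2.euler k X ((Coh.push U.ι).obj (M.restrict U.ι)) +
      Curv2.euler k X ((Coh.push V.ι).obj (M.restrict V.ι)) := by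
  haveI := isIso_lift_resUnit U V hUV hcov M
  haveI : IsLocallyNoetherian X := LocallyOfFiniteType.isLocallyNoetherian (X ↘ Spec (CommRingCat.of k))
  have hS := (ShortComplex.Splitting.ofHasBinaryBiproduct ((Coh.push U.ι).obj (M.restrict U.ι))
    ((Coh.push V.ι).obj (M.restrict V.ι))).shortExact
  let e : M ≅ ((Coh.push U.ι).obj (M.restrict U.ι)) ⊞ ((Coh.push V.ι).obj (M.restrict V.ι)) :=
    asIso (biprod.lift (resUnit U M) (resUnit V M))
  have h1 := euler_congr k X e
  have h2 := euler_additive k X _ hS hA (isCoh_X₂ hS hA hB) hB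
  exact h1.trans h2

end Groth.Agent.EtDeg8
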